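import Cfsg.Agent.Lib.SLThreeSubgroups.AltAct

/-!
# The socle of degree seven is the whole group
-/

set_option autoImplicit false
set_option linter.unusedSectionVars false
set_option linter.style.haveILetI false

namespace CfsgLib.SLThreeSubgroups.AltCase

open Cfsg.Geo CfsgLib.SLThreeResidual Matrix
open Equiv (Perm)

variable {F : Type*} [Field F] [Fintype F] {G P : Subgroup (GL (Fin 3) F)}

/-- In degree seven every element of `G` is inner modulo scalars. -/
theorem inner_seven (hA : Almost G P) (e : Proj P ≃* alternatingGroup (Fin 7)) (h7 : (7 : F) ≠ 0)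
    (h : G) : Inner hA e h := by
  obtain ⟨σ, hσ⟩ := (Cfsg.Agent.S2119.result 7 (by norm_num) (by norm_num)).2 (act hA e h)
  rcases Int.units_eq_one_or (Perm.sign σ) with hs | hs
  · refine ⟨⟨σ, Equiv.Perm.mem_alternatingGroup.2 hs⟩, fun a => ?_⟩
    rw [← hσ]
    exact Subtype.ext (MulAut.conjNormal_apply σ a)
  exfalso
  -- adjust to invert a seven-cycle
  obtain ⟨hrev, hτ⟩ := AltFinite.c7_reversed
  set τ : Perm (Fin 7) := Equiv.swap 1 6 * (Equiv.swap 2 5 * Equiv.swap 3 4)
  have hb : τ * σ⁻¹ ∈ alternatingGroup (Fin 7) := by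
    rw [Equiv.Perm.mem_alternatingGroup, map_mul, map_inv, hτ, hs]; rfl
  obtain ⟨k, hk⟩ := exists_adjust hA e h ⟨τ * σ⁻¹, hb⟩
  set c := CfsgLib.SLThreeResidual.Alt.c7 with hc
  have hc7 : c ^ 7 = 1 := by decide +kernel
  have hinv : act hA e (Subgroup.inclusion hA.le k * h) c = c⁻¹ := by
    rw [hk, ← hσ]
    refine Subtype.ext ?_
    simp only [Subgroup.coe_mul, Subgroup.coe_inv, MulAut.conjNormal_apply]
    rw [← hrev]
    group
  -- the lift of the seven-cycle
  obtain ⟨x₀, hx₀⟩ := exists_rep e c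
  obtain ⟨z, x, -, -, hx7, hpx⟩ := lift_coprime hA.core x₀ (n := 7)
    (e.injective (by rw [map_pow, hx₀, hc7, map_one])) (by norm_num)
  have hx : e (proj P x) = c := by rw [hpx, hx₀]
  have hx7' : (x : GL (Fin 3) F) ^ 7 = 1 := by rw [← SubmonoidClass.coe_pow, hx7, Subgroup.coe_one]
  have hx1 : (x : GL (Fin 3) F) ≠ 1 := by
    intro h1
    rw [show x = 1 from Subtype.ext h1, map_one, map_one] at hx
    exact absurd hx (by decide +kernel)
  have hr : tr3 (x : GL (Fin 3) F)⁻¹ = tr3 (x : GL (Fin 3) F) := by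
    have h6 := trace_pow_of_act hA e _ x (n := 7) (m := 6) (by norm_num) hx7
      (by rw [hx, hinv]; exact inv_eq_pow_pred hc7)
    rwa [← inv_eq_pow_pred (n := 6) hx7'] at h6
  have h2 : tr3 ((x : GL (Fin 3) F) ^ 2) = tr3 (x : GL (Fin 3) F) :=
    trace_pow_of_conj hA.core x hx7 (by norm_num)
      (conj_transport e (by rw [hx]; exact CfsgLib.SLThreeResidual.Alt.seven_seven hc7))
  exact false_of_seven (det_eq_one hA.core x.2) hx7' hx1 hr h2 h7

end CfsgLib.SLThreeSubgroups.AltCase
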