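import Cfsg.Agent.Lib.SLThreeSubgroups.AltSix
import Cfsg.Agent.Lib.SLThreeSubgroups.AltSeven

/-!
# Groups with socle the alternating group of degree six or seven
-/

set_option autoImplicit false
set_option linter.unusedSectionVars false
set_option linter.style.haveILetI false

namespace CfsgLib.SLThreeSubgroups

open Cfsg.Geo CfsgLib.SLThreeResidual Matrix

variable {F : Type*} [Field F] [Fintype F] {G P : Subgroup (GL (Fin 3) F)} {F₀ : Subfield F}
  {P₀ : Subgroup (GL (Fin 3) F₀)}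

namespace AltCase

lemma map_mem_scalars_iff (g : GL (Fin 3) F₀) :
    Matrix.GeneralLinearGroup.map F₀.subtype g ∈ scalars (Fin 3) F ↔ g ∈ scalars (Fin 3) F₀ := by
  rw [mem_scalars_iff, mem_scalars_iff]
  constructor
  · rintro ⟨c, hc⟩
    have h00 : ((g : Matrix (Fin 3) (Fin 3) F₀) 0 0 : F) = c := by
      have := congrArg (fun M : Matrix (Fin 3) (Fin 3) F => M 0 0) hc
      simpa using this
    refine ⟨Units.mk0 ((g : Matrix (Fin 3) (Fin 3) F₀) 0 0) (fun h0 => c.ne_zero ?_), ?_⟩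
    · rw [← h00, h0]; rfl
    · ext i j
      have := congrArg (fun M : Matrix (Fin 3) (Fin 3) F => M i j) hc
      simp only [GeneralLinearGroup.map_apply, Matrix.smul_apply, Matrix.one_apply, smul_eq_mul] at this
      rw [← h00] at this
      change ((g : Matrix (Fin 3) (Fin 3) F₀) i j : F) = _ at this
      rw [this]
      simp only [Units.val_mk0, Matrix.smul_apply, Matrix.one_apply, smul_eq_mul]
      split_ifs <;> simp
  · rintro ⟨c, hc⟩
    refine ⟨Units.map (F₀.subtype : F₀ →* F) c, ?_⟩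
    ext i j
    rw [GeneralLinearGroup.map_apply, hc]
    simp [Matrix.one_apply]
    split_ifs <;> simp

/-- The quotients modulo scalars of a group over a subfield and of its base change agree. -/
lemma exists_proj_equiv (hM : Model P F₀ P₀) :
    Nonempty (Proj P₀ ≃* Proj P) ∧
      ∀ z : P₀, (z : GL (Fin 3) F₀) ∈ scalars (Fin 3) F₀ → z ≠ 1 →
        ∃ z' : P, (z' : GL (Fin 3) F) ∈ scalars (Fin 3) F ∧ z' ≠ 1 := by
  obtain ⟨hP, -, -⟩ := hM
  subst hP
  have hinj : Function.Injective (Matrix.GeneralLinearGroup.map (n := Fin 3) F₀.subtype) := by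
    intro a b hab
    refine Units.ext (Matrix.ext fun i j => Subtype.ext ?_)
    have := congrArg (fun u : GL (Fin 3) F => (u : Matrix (Fin 3) (Fin 3) F) i j) hab
    simpa using this
  let ι : P₀ ≃* baseChange F₀ P₀ := Subgroup.equivMapOfInjective P₀ _ hinj
  have hι : ∀ x : P₀, ((ι x : baseChange F₀ P₀) : GL (Fin 3) F) =
      Matrix.GeneralLinearGroup.map F₀.subtype (x : GL (Fin 3) F₀) := fun _ => rfl
  refine ⟨⟨QuotientGroup.congr _ _ ι ?_⟩, fun z hz hz1 => ⟨ι z, ?_, ?_⟩⟩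
  · ext y
    obtain ⟨x, rfl⟩ := ι.surjective y
    rw [Subgroup.mem_map, Subgroup.mem_subgroupOf, hι, map_mem_scalars_iff]
    constructor
    · rintro ⟨x', hx', h⟩
      obtain rfl : x' = x := ι.injective h
      exact hx'
    · intro hx
      exact ⟨x, hx, rfl⟩
  · rw [hι]; exact (map_mem_scalars_iff _).2 hz
  · exact fun h => hz1 (ι.injective (h.trans (map_one ι).symm))

lemma mod30_pow_one_or {p : ℕ} (h : p % 30 = 1 ∨ p % 30 = 19) (n : ℕ) :
    p ^ n % 30 = 1 ∨ p ^ n % 30 = 19 := by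
  induction n with
  | zero => simp
  | succ n ih =>
    rw [pow_succ, Nat.mul_mod]
    rcases h with h | h <;> rcases ih with ih | ih <;> rw [h, ih] <;> simp

/-- The congruence on the order of the field from that on the order of the subfield. -/
lemma congr_six (p α β r : ℕ) [hp : Fact p.Prime] (hp2 : p ≠ 2) (hα : p ^ α = (p ^ β) ^ r)
    (h : (p ^ β = p ∧ (p % 15 = 1 ∨ p % 15 = 4)) ∨ (p ^ β = p ^ 2 ∧ (p % 15 = 11 ∨ p % 15 = 14)) ∨
      (p ^ β = p ^ 2 ∧ p ≠ 3 ∧ (p % 5 = 2 ∨ p % 5 = 3))) :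
    p ^ α % 30 = 1 ∨ p ^ α % 30 = 19 := by
  rw [hα]
  have hodd : p % 2 = 1 := hp.out.eq_two_or_odd.resolve_left hp2
  refine mod30_pow_one_or ?_ r
  rcases h with ⟨e, h⟩ | ⟨e, h⟩ | ⟨e, h3, h⟩
  · rw [e]; omega
  · rw [e, sq, Nat.mul_mod]
    rcases (show p % 30 = 11 ∨ p % 30 = 29 by omega) with h' | h' <;> rw [h'] <;> simp
  · have h3' : p % 3 ≠ 0 := fun h0 => h3
      ((Nat.prime_dvd_prime_iff_eq Nat.prime_three hp.out).1 (Nat.dvd_of_mod_eq_zero h0)).symm
    rw [e, sq, Nat.mul_mod]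
    rcases (show p % 30 = 7 ∨ p % 30 = 13 ∨ p % 30 = 17 ∨ p % 30 = 23 by omega) with h' | h' | h' | h'
      <;> rw [h'] <;> simp

end AltCase

open AltCase in
/-- **The alternating socles.** -/
theorem isAltType_of_iso {p α : ℕ} [Fact p.Prime] (hF : Fintype.card F = p ^ α) (hp : p ≠ 2)
    (hA : Almost G P) (hM : Model P F₀ P₀) (hQ : ¬ QuadFix P₀)
    (e : Nonempty (Proj P₀ ≃* alternatingGroup (Fin 6)) ∨
      Nonempty (Proj P₀ ≃* alternatingGroup (Fin 7))) :
    IsAltType p α (GBar G) := by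
  classical
  haveI : CharP F p := charP_of_card_eq_prime_pow hF
  haveI : CharP F₀ p := (F₀.subtype).charP F₀.subtype.injective p
  obtain ⟨β, -, hβ⟩ := FiniteField.card F₀ p
  obtain ⟨r, hr⟩ : ∃ r : ℕ, p ^ α = (p ^ (β : ℕ)) ^ r := by
    refine ⟨Module.finrank F₀ F, ?_⟩
    rw [← hF, Module.card_eq_pow_finrank (K := F₀) (V := F), hβ]
  obtain ⟨⟨ε⟩, hscal⟩ := exists_proj_equiv hM
  have even_of : p = 5 → Fintype.card F₀ = p ^ 2 → Even α := by
    intro h5 hc
    refine ⟨r, ?_⟩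
    have h2 : p ^ α = p ^ (r + r) := by
      rw [hr, ← hβ, hc, ← pow_mul, two_mul]
    exact Nat.pow_right_injective (Fact.out : p.Prime).two_le h2
  rcases e with he | he
  · obtain ⟨e₀⟩ := he
    let e : Proj P ≃* alternatingGroup (Fin 6) := ε.symm.trans e₀
    obtain ⟨c, -, hc1, z, hz⟩ := six_scalar hM.core hQ e₀
    have hz' : ∃ z' : P, (z' : GL (Fin 3) F) ∈ scalars (Fin 3) F ∧ z' ≠ 1 := by
      refine hscal z ((mem_scalars_iff _).2 ⟨Units.mk0 c ?_, hz⟩) ?_
      · intro h0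
        exact (z : GL (Fin 3) F₀).ne_zero (by rw [hz, h0, zero_smul])
      · intro h1
        rw [h1] at hz
        have := congrArg (fun M : Matrix (Fin 3) (Fin 3) F₀ => M 0 0) hz
        simp at this
        exact hc1 this.symm
    have hcongr := congr_A6 hM.core hM.noSub hQ ⟨e₀⟩ p
    rw [hβ] at hcongr
    by_cases h5 : p = 5
    · subst h5
      have hc : Fintype.card F₀ = 5 ^ 2 := by
        rcases hcongr with ⟨-, h⟩ | ⟨h, -, -⟩ | ⟨-, -, h, -⟩
        · simp at h
        · rw [hβ, h]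
        · simp at h
      refine Or.inl ⟨rfl, even_of rfl hc, ?_⟩
      rcases six_cases hA e hz' with hall | hL
      · exact Or.inl (socle_equiv hA e hall)
      · exact Or.inr (Or.inr hL)
    · refine Or.inr ⟨congr_six p α β r hp hr ?_, socle_equiv hA e fun h =>
        inner_of_ne_five hA e hz' (fun h50 => h5 ?_) h⟩
      · rcases hcongr with ⟨a, b⟩ | ⟨a, b, -⟩ | ⟨a, b, c, -⟩
        · exact Or.inl ⟨a, b⟩
        · refine Or.inr (Or.inl ⟨a, ?_⟩)
          tauto
        · exact Or.inr (Or.inr ⟨a, b, c⟩)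
      · have h50' : ((5 : ℕ) : F) = 0 := by exact_mod_cast h50
        exact (Nat.prime_dvd_prime_iff_eq Fact.out (by norm_num)).1 ((CharP.cast_eq_zero_iff F p 5).1 h50')
  · obtain ⟨e₀⟩ := he
    obtain ⟨hp5, hc, -⟩ := congr_A7 hM.core hM.noSub hQ ⟨e₀⟩ p
    let e : Proj P ≃* alternatingGroup (Fin 7) := ε.symm.trans e₀
    have h7 : (7 : F) ≠ 0 := fun h70 => by
      have h70' : ((7 : ℕ) : F) = 0 := by exact_mod_cast h70
      have := (Nat.prime_dvd_prime_iff_eq Fact.out (by norm_num)).1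
        ((CharP.cast_eq_zero_iff F p 7).1 h70')
      omega
    exact Or.inl ⟨hp5, even_of hp5 (by rw [hc, hp5]; norm_num),
      Or.inr (Or.inl (socle_equiv hA e fun h => inner_seven hA e h7 h))⟩

end CfsgLib.SLThreeSubgroups
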