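import Cfsg.Agent.Lib.SLThreeSubgroups.Defs
import Cfsg.Agent.Lib.SLThreeSubgroups.AltFinite
import Cfsg.Agent.Lib.SLThreeResidual.Congr
import Cfsg.Agent.Lib.StronglyPEmbedded.AltAut
import Cfsg.Agent.S2119

/-!
# Almost simple subgroups with socle the alternating group of degree six or seven

The action of `G` on `P` modulo scalars is studied through a fixed isomorphism with the alternating
group.
-/

set_option autoImplicit false
set_option linter.unusedSectionVars false
set_option linter.style.haveILetI false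

namespace CfsgLib.SLThreeSubgroups.AltCase

open Cfsg.Geo CfsgLib.SLThreeResidual Matrix
open Equiv (Perm)

variable {F : Type*} [Field F] [Fintype F] {G P : Subgroup (GL (Fin 3) F)} {A : Type*} [Group A]

/-- Conjugation by an element of `G` on `P`. -/
def conjP (hA : Almost G P) (h : G) : MulAut P where
  toFun x := ⟨(h : GL (Fin 3) F) * x * (h : GL (Fin 3) F)⁻¹, hA.normal _ h.2 _ x.2⟩
  invFun x := ⟨(h : GL (Fin 3) F)⁻¹ * x * (h : GL (Fin 3) F), by
    simpa using hA.normal _ (inv_mem h.2) _ x.2⟩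
  left_inv x := Subtype.ext (by
    show (h : GL (Fin 3) F)⁻¹ * ((h : GL (Fin 3) F) * x * (h : GL (Fin 3) F)⁻¹) * h = x
    group)
  right_inv x := Subtype.ext (by
    show (h : GL (Fin 3) F) * ((h : GL (Fin 3) F)⁻¹ * x * h) * (h : GL (Fin 3) F)⁻¹ = x
    group)
  map_mul' x y := Subtype.ext (by
    show (h : GL (Fin 3) F) * (x * y : GL (Fin 3) F) * (h : GL (Fin 3) F)⁻¹ =
      ((h : GL (Fin 3) F) * x * (h : GL (Fin 3) F)⁻¹) * ((h : GL (Fin 3) F) * y * (h : GL (Fin 3) F)⁻¹)
    group)

lemma conjP_coe (hA : Almost G P) (h : G) (x : P) :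
    ((conjP hA h x : P) : GL (Fin 3) F) = (h : GL (Fin 3) F) * x * (h : GL (Fin 3) F)⁻¹ := rfl

lemma conjP_scalar (hA : Almost G P) (h : G) (z : P) (hz : (z : GL (Fin 3) F) ∈ scalars (Fin 3) F) :
    conjP hA h z = z := Subtype.ext (by
  rw [conjP_coe, ← scalar_comm hz, mul_inv_cancel_right])

lemma conjP_mul (hA : Almost G P) (h k : G) (x : P) :
    conjP hA (h * k) x = conjP hA h (conjP hA k x) := Subtype.ext (by
  simp only [conjP_coe, Subgroup.coe_mul, _root_.mul_inv_rev, mul_assoc])

lemma conjP_incl (hA : Almost G P) (k x : P) :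
    conjP hA (Subgroup.inclusion hA.le k) x = k * x * k⁻¹ := rfl

lemma trace_conjP (hA : Almost G P) (h : G) (x : P) :
    tr3 ((conjP hA h x : P) : GL (Fin 3) F) = tr3 (x : GL (Fin 3) F) := by
  rw [conjP_coe, SLThreeResidual.trace_conj]

lemma conjP_map (hA : Almost G P) (h : G) :
    ((scalars (Fin 3) F).subgroupOf P).map (conjP hA h).toMonoidHom =
      (scalars (Fin 3) F).subgroupOf P := by
  ext x
  constructor
  · rintro ⟨z, hz, rfl⟩
    show conjP hA h z ∈ _
    rw [conjP_scalar hA h z hz]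
    exact hz
  · intro hx
    exact ⟨x, hx, conjP_scalar hA h x hx⟩

/-- The automorphism of the alternating group given by an element of `G`. -/
noncomputable def act (hA : Almost G P) (e : Proj P ≃* A) (h : G) : MulAut A :=
  (e.symm.trans (QuotientGroup.congr _ _ (conjP hA h) (conjP_map hA h))).trans e

lemma act_spec (hA : Almost G P) (e : Proj P ≃* A) (h : G) (x : P) :
    act hA e h (e (proj P x)) = e (proj P (conjP hA h x)) := by
  show e (QuotientGroup.congr _ _ (conjP hA h) (conjP_map hA h) (e.symm (e (proj P x)))) = _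
  rw [e.symm_apply_apply]
  rfl

lemma exists_rep (e : Proj P ≃* A) (a : A) : ∃ x : P, e (proj P x) = a := by
  obtain ⟨x, hx⟩ := QuotientGroup.mk'_surjective _ (e.symm a)
  exact ⟨x, (congrArg e hx).trans (e.apply_symm_apply a)⟩

lemma act_mul (hA : Almost G P) (e : Proj P ≃* A) (h k : G) (a : A) :
    act hA e (h * k) a = act hA e h (act hA e k a) := by
  obtain ⟨x, rfl⟩ := exists_rep e a
  rw [act_spec, act_spec, act_spec, conjP_mul]

lemma act_incl (hA : Almost G P) (e : Proj P ≃* A) (k : P) (a : A) :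
    act hA e (Subgroup.inclusion hA.le k) a = e (proj P k) * a * (e (proj P k))⁻¹ := by
  obtain ⟨x, rfl⟩ := exists_rep e a
  rw [act_spec, conjP_incl]
  simp only [map_mul, map_inv]

/-- Every element of the alternating group is realised by conjugation in `P`. -/
lemma exists_adjust (hA : Almost G P) (e : Proj P ≃* A) (h : G) (b : A) :
    ∃ k : P, ∀ a : A, act hA e (Subgroup.inclusion hA.le k * h) a = b * act hA e h a * b⁻¹ := by
  obtain ⟨k, hk⟩ := exists_rep e b
  exact ⟨k, fun a => by rw [act_mul, act_incl, hk]⟩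

/-- The elements of `G` that are inner modulo scalars. -/
def Inner (hA : Almost G P) (e : Proj P ≃* A) (h : G) : Prop :=
  ∃ b : A, ∀ a : A, act hA e h a = b * a * b⁻¹

/-- The map of `P` modulo scalars into `G` modulo scalars. -/
noncomputable def socle (hA : Almost G P) : Proj P →* GBar G :=
  QuotientGroup.map _ _ (Subgroup.inclusion hA.le) (fun _ hx => hx)

lemma socle_injective (hA : Almost G P) : Function.Injective (socle hA) := by
  rw [injective_iff_map_eq_one]
  intro a ha
  obtain ⟨x, rfl⟩ := QuotientGroup.mk'_surjective _ a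
  exact (QuotientGroup.eq_one_iff x).2 ((QuotientGroup.eq_one_iff _).1 ha :)

lemma mem_socle_of_inner (hA : Almost G P) (e : Proj P ≃* A) (h : G) (hi : Inner hA e h) :
    (QuotientGroup.mk h : GBar G) ∈ (socle hA).range := by
  obtain ⟨b, hb⟩ := hi
  obtain ⟨k, hk⟩ := exists_adjust hA e h b⁻¹
  have hs : (Subgroup.inclusion hA.le k * h : GL (Fin 3) F) ∈ scalars (Fin 3) F := by
    refine hA.cent _ (Subgroup.inclusion hA.le k * h).2 fun x hx => ?_
    have h1 := hk (e (proj P ⟨x, hx⟩))
    rw [hb, act_spec] at h1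
    have h2 : proj P (conjP hA (Subgroup.inclusion hA.le k * h) ⟨x, hx⟩) = proj P ⟨x, hx⟩ :=
      e.injective (by rw [h1]; group)
    obtain ⟨z, hz, e'⟩ := exists_scalar_of_proj_eq h2
    have e'' := congrArg (fun y : P => (y : GL (Fin 3) F)) e'
    simp only [conjP_coe, Subgroup.coe_mul] at e''
    rw [e'', mul_inv_cancel_right]
    exact hz
  refine ⟨proj P k⁻¹, ?_⟩
  show (QuotientGroup.mk (Subgroup.inclusion hA.le k⁻¹) : GBar G) = QuotientGroup.mk h
  rw [QuotientGroup.eq, Subgroup.mem_subgroupOf]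
  simpa using hs

lemma socle_equiv (hA : Almost G P) (e : Proj P ≃* A) (hall : ∀ h : G, Inner hA e h) :
    Nonempty (GBar G ≃* A) := by
  refine ⟨(MulEquiv.ofBijective (socle hA) ⟨socle_injective hA, fun y => ?_⟩).symm.trans e⟩
  obtain ⟨h, rfl⟩ := QuotientGroup.mk_surjective y
  exact mem_socle_of_inner hA e h (hall h)

lemma socle_range_normal (hA : Almost G P) : ((socle hA).range).Normal := by
  refine ⟨fun n hn g => ?_⟩
  obtain ⟨a, rfl⟩ := hn
  obtain ⟨x, rfl⟩ := QuotientGroup.mk'_surjective _ a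
  obtain ⟨h, rfl⟩ := QuotientGroup.mk_surjective g
  exact ⟨proj P (conjP hA h x), rfl⟩

/-- A root of the identity of order prime to three and the image determine the lift. -/
lemma eq_of_proj (hC : Core P) {x y : P} {n : ℕ} (h3 : n.Coprime 3) (hx : x ^ n = 1) (hy : y ^ n = 1)
    (hxy : proj P x = proj P y) : x = y := by
  obtain ⟨z, hz, rfl⟩ := exists_scalar_of_proj_eq hxy
  have hz3 : z ^ 3 = 1 := Subtype.ext (by
    rw [SubmonoidClass.coe_pow]; exact scalar_cube hC z.2 hz)
  have hzn : z ^ n = 1 := by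
    have hcomm : Commute z y := Subtype.ext (scalar_comm hz _)
    rwa [hcomm.mul_pow, hy, mul_one] at hx
  have := pow_gcd_eq_one.2 ⟨hzn, hz3⟩
  rw [h3, pow_one] at this
  rw [this, one_mul]

/-- If conjugation carries the image of `x` to that of its `m`-th power, the traces agree. -/
lemma trace_pow_of_act (hA : Almost G P) (e : Proj P ≃* A) (h : G) (x : P) {n m : ℕ}
    (h3 : n.Coprime 3) (hn : x ^ n = 1) (hact : act hA e h (e (proj P x)) = e (proj P x) ^ m) :
    tr3 ((x : GL (Fin 3) F) ^ m) = tr3 (x : GL (Fin 3) F) := by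
  have h1 : conjP hA h x = x ^ m := by
    refine eq_of_proj hA.core h3 (by rw [← map_pow, hn, map_one]) ?_ ?_
    · rw [← pow_mul, mul_comm, pow_mul, hn, one_pow]
    · apply e.injective
      rw [← act_spec, hact, map_pow, map_pow]
  rw [← trace_conjP hA h x, h1, SubmonoidClass.coe_pow]

/-- An element of order seven has two different traces when it is fused with its square. -/
lemma false_of_seven {g : GL (Fin 3) F} (hd : (g : Matrix (Fin 3) (Fin 3) F).det = 1)
    (h7 : g ^ 7 = 1) (hg : g ≠ 1) (hinv : tr3 g⁻¹ = tr3 g) (hsq : tr3 (g ^ 2) = tr3 g)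
    (hp7 : (7 : F) ≠ 0) : False := by
  have ht : tr3 g * (tr3 g - 3) = 0 := by
    have h := trace_sq hd
    rw [hsq, hinv] at h
    linear_combination -h
  have h7' : (g : Matrix (Fin 3) (Fin 3) F) ^ 7 = 1 := by
    rw [← Units.val_pow_eq_pow_val, h7, Units.val_one]
  refine hg (Units.ext ?_)
  rw [Units.val_one]
  have hC := cayley_three hd
  rw [hinv] at hC
  set M := (g : Matrix (Fin 3) (Fin 3) F)
  rcases mul_eq_zero.1 ht with h0 | h0
  · rw [h0, zero_smul, zero_smul, sub_zero, zero_add] at hC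
    have := pow_gcd_eq_one.2 ⟨h7', hC⟩
    rwa [show Nat.gcd 7 3 = 1 from rfl, pow_one] at this
  · rw [sub_eq_zero] at h0
    rw [h0] at hC
    set N := M - 1 with hN
    have hM : M = N + 1 := by rw [hN, sub_add_cancel]
    have hN3 : N ^ 3 = 0 := by
      have h0' : N ^ 3 = M ^ 3 - (3 : F) • M ^ 2 + (3 : F) • M - 1 := by
        simp only [hN, pow_succ, pow_zero, one_mul, sub_mul, mul_sub, mul_one]
        module
      rw [h0', hC]
      abel
    have hN7 : (7 : F) • N + (21 : F) • N ^ 2 = 0 := by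
      have h1 : M ^ 7 = 1 + (7 : F) • N + (21 : F) • N ^ 2 := by
        rw [hM]
        simp only [pow_succ, pow_zero, one_mul, add_mul, mul_add, mul_one] at hN3 ⊢
        simp only [hN3, zero_mul, add_zero, zero_add]
        module
      rw [h7', add_assoc] at h1
      exact add_eq_left.1 h1.symm
    have hN2 : N ^ 2 = 0 := by
      have h := congrArg (· * N) hN7
      simp only [add_mul, Matrix.smul_mul, zero_mul, ← pow_succ, hN3, smul_zero, add_zero, ← sq] at h
      exact (smul_eq_zero.1 h).resolve_left hp7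
    rw [hN2, smul_zero, add_zero] at hN7
    rw [hM, (smul_eq_zero.1 hN7).resolve_left hp7, zero_add]

/-! ### Commutators with central value -/

lemma commutator_pow_pow {Γ : Type*} [Group Γ] (a b z : Γ) (hz : ∀ x, Commute z x)
    (hab : a * b = z * (b * a)) (i j : ℕ) : a ^ i * b ^ j = z ^ (i * j) * (b ^ j * a ^ i) := by
  have h1 : ∀ j : ℕ, a * b ^ j = z ^ j * (b ^ j * a) := by
    intro j
    induction j with
    | zero => simp
    | succ j ih =>
      rw [pow_succ b, ← mul_assoc, ih, mul_assoc, mul_assoc, hab, ← mul_assoc (b ^ j) z,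
        ← (hz (b ^ j)).eq, pow_succ z]
      group
  induction i with
  | zero => simp
  | succ i ih =>
    rw [pow_succ' a, mul_assoc, ih, ← mul_assoc a, ← ((hz a).pow_left _).eq, mul_assoc,
      ← mul_assoc a, h1, Nat.add_mul, one_mul, pow_add]
    simp only [mul_assoc]

/-- The commutator of two words in generators with central commutator. -/
lemma commutator_words {Γ : Type*} [Group Γ] (a b z : Γ) (hz : ∀ x, Commute z x)
    (hab : a * b = z * (b * a)) (i j k l : ℕ) :
    a ^ i * b ^ j * (a ^ k * b ^ l) * z ^ (j * k) =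
      z ^ (i * l) * (a ^ k * b ^ l * (a ^ i * b ^ j)) := by
  have e1 := commutator_pow_pow a b z hz hab k j
  have e2 := commutator_pow_pow a b z hz hab i l
  have c : ∀ (m : ℕ) (x : Γ), z ^ m * x = x * z ^ m := fun m x => ((hz x).pow_left m).eq
  calc a ^ i * b ^ j * (a ^ k * b ^ l) * z ^ (j * k)
      = a ^ i * (z ^ (j * k) * (b ^ j * a ^ k)) * b ^ l := by
        rw [mul_assoc (a ^ i * b ^ j), mul_assoc (a ^ k), ← c, ← mul_assoc (a ^ k), ← c]
        simp only [← mul_assoc]
        rw [← c, ← c]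
        simp only [mul_assoc]
    _ = a ^ i * (a ^ k * b ^ j) * b ^ l := by rw [e1, mul_comm j k]
    _ = a ^ k * (a ^ i * b ^ l) * b ^ j := by
        rw [← mul_assoc, ← pow_add, mul_assoc, ← pow_add, ← mul_assoc (a ^ k), ← pow_add,
          mul_assoc, ← pow_add, add_comm k i, add_comm j l]
    _ = a ^ k * (z ^ (i * l) * (b ^ l * a ^ i)) * b ^ j := by rw [e2]
    _ = z ^ (i * l) * (a ^ k * b ^ l * (a ^ i * b ^ j)) := by
        rw [← mul_assoc (a ^ k), ← c]
        simp only [mul_assoc]

end CfsgLib.SLThreeSubgroups.AltCase
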