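import Cfsg.Agent.Lib.SLThreeSubgroups.AltAct

/-!
# The socle of degree six has index at most two, and index one outside characteristic five

The non-trivial scalar in `P` is a commutator of lifts of `u = (0 1 2)` and `v = (3 4 5)`, so the
action of an element of `G` on the Sylow three-subgroup has determinant one.
-/

set_option autoImplicit false
set_option linter.unusedSectionVars false
set_option linter.style.haveILetI false

namespace CfsgLib.SLThreeSubgroups.AltCase

open Cfsg.Geo CfsgLib.SLThreeResidual Matrix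
open Equiv (Perm)
open CfsgLib.SLThreeResidual.Alt (u6 v6)
open CfsgLib.SLThreeSubgroups.AltFinite

variable {F : Type*} [Field F] [Fintype F] {G P : Subgroup (GL (Fin 3) F)}
variable {hA : Almost G P} {e : Proj P ≃* alternatingGroup (Fin 6)}

/-- The hom onto the fixed Sylow three-subgroup. -/
def sylowHom : Multiplicative (ZMod 3) × Multiplicative (ZMod 3) →* alternatingGroup (Fin 6) :=
  MonoidHom.mk' CfsgLib.SLThreeResidual.Alt.three6 CfsgLib.SLThreeResidual.Alt.three6_facts.1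

lemma card_sylowHom_range : Nat.card (sylowHom).range = 9 := by
  rw [← Nat.card_congr (MonoidHom.ofInjective
    ((injective_iff_map_eq_one sylowHom).2 CfsgLib.SLThreeResidual.Alt.three6_facts.2.1)).toEquiv]
  simp [Nat.card_eq_fintype_card]

lemma exists_elt {x : alternatingGroup (Fin 6)} (hx : x ∈ (sylowHom).range) :
    ∃ a : Fin 3 × Fin 3, x = elt a := by
  obtain ⟨a, rfl⟩ := hx
  exact ⟨(⟨(Multiplicative.toAdd a.1).val, ZMod.val_lt _⟩,
    ⟨(Multiplicative.toAdd a.2).val, ZMod.val_lt _⟩), rfl⟩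

lemma u6_mem : u6 ∈ (sylowHom).range :=
  ⟨(Multiplicative.ofAdd 1, 1), by decide +kernel⟩

lemma v6_mem : v6 ∈ (sylowHom).range :=
  ⟨(1, Multiplicative.ofAdd 1), by decide +kernel⟩

lemma pow_three_eq_one : ∀ j : Multiplicative (ZMod 3) × Multiplicative (ZMod 3), j ^ 3 = 1 := by
  decide

lemma elt_cast (a : Fin 3 × Fin 3) :
    elt a = u6 ^ (a.1 : ℕ) * v6 ^ (a.2 : ℕ) := rfl

/-- Lifts of `u` and `v` whose commutator is a non-trivial scalar. -/
lemma exists_lifts (hA : Almost G P) (e : Proj P ≃* alternatingGroup (Fin 6))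
    (hz : ∃ z : P, (z : GL (Fin 3) F) ∈ scalars (Fin 3) F ∧ z ≠ 1) :
    ∃ a b z : P, e (proj P a) = u6 ∧ e (proj P b) = v6 ∧ (z : GL (Fin 3) F) ∈ scalars (Fin 3) F ∧
      z ≠ 1 ∧ a * b = z * (b * a) := by
  obtain ⟨a, ha⟩ := exists_rep e u6
  obtain ⟨b, hb⟩ := exists_rep e v6
  have huv : proj P (a * b) = proj P (b * a) := e.injective (by
    rw [map_mul, map_mul, map_mul, map_mul, ha, hb]
    decide +kernel)
  obtain ⟨z, hzs, hab⟩ := exists_scalar_of_proj_eq huv
  refine ⟨a, b, z, ha, hb, hzs, fun hz1 => ?_, hab⟩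
  rw [hz1, one_mul] at hab
  -- the preimage of the Sylow subgroup would be an abelian Sylow subgroup
  obtain ⟨c, hcs, hc1⟩ := hz
  haveI : Fact (3 : ℕ).Prime := ⟨Nat.prime_three⟩
  let π : P →* alternatingGroup (Fin 6) := e.toMonoidHom.comp (proj P)
  have hπs : Function.Surjective π := fun x => exists_rep e x
  let R : Subgroup P := (sylowHom).range.comap π
  have hRp : IsPGroup 3 R := by
    rintro ⟨x, hx⟩
    refine ⟨2, Subtype.ext ?_⟩
    obtain ⟨i, hi⟩ := hx
    have h3 : e (proj P x) ^ 3 = 1 := by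
      show π x ^ 3 = 1
      rw [← hi, ← map_pow, pow_three_eq_one i, map_one]
    have hs : ((x ^ 3 : P) : GL (Fin 3) F) ∈ scalars (Fin 3) F :=
      (proj_eq_one_iff _).1 (e.injective (by rw [map_pow, map_pow, h3, map_one]))
    rw [SubmonoidClass.coe_pow, Subgroup.coe_one, show (3 : ℕ) ^ 2 = 3 * 3 from rfl, pow_mul]
    exact Subtype.ext (by rw [SubmonoidClass.coe_pow]; exact scalar_cube hA.core (x ^ 3).2 hs)
  have hRi : ¬ 3 ∣ R.index := by
    rw [Subgroup.index_comap_of_surjective _ hπs]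
    have h := (sylowHom).range.card_mul_index
    rw [card_sylowHom_range, CfsgLib.SLThreeResidual.Alt.card_six] at h
    omega
  have hcomm : ∀ x y : P, x ∈ R → y ∈ R → x * y = y * x := by
    have hword : ∀ x ∈ R, ∃ (s : P) (i j : ℕ), (s : GL (Fin 3) F) ∈ scalars (Fin 3) F ∧
        x = s * (a ^ i * b ^ j) := by
      intro x hx
      obtain ⟨i, hi⟩ := exists_elt hx
      obtain ⟨s, hs, hxs⟩ := exists_scalar_of_proj_eq (g := x) (h := a ^ (i.1 : ℕ) * b ^ (i.2 : ℕ))
        (e.injective (by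
          rw [map_mul, map_pow, map_pow, map_mul, map_pow, map_pow, ha, hb, ← elt_cast, ← hi]
          rfl))
      exact ⟨s, _, _, hs, hxs⟩
    intro x y hx hy
    obtain ⟨s, i, j, hs, rfl⟩ := hword x hx
    obtain ⟨t, k, l, ht, rfl⟩ := hword y hy
    have hsc : ∀ w : P, Commute s w := fun w => Subtype.ext (scalar_comm hs _)
    have htc : ∀ w : P, Commute t w := fun w => Subtype.ext (scalar_comm ht _)
    have hab' : Commute a b := hab
    have hw : Commute (a ^ i * b ^ j) (a ^ k * b ^ l) :=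
      ((Commute.pow_pow_self a i k).mul_left (hab'.symm.pow_pow j k)).mul_right
        ((hab'.pow_pow i l).mul_left (Commute.pow_pow_self b j l))
    exact ((hsc _).mul_left ((htc _).symm.mul_right hw)).eq
  exact hc1 (scalar_eq_one_of_sylow_comm hA.core (hRp.toSylow hRi)
    (fun x y => Subtype.ext (hcomm _ _ x.2 y.2)) c hcs)

/-- The determinant of the action on the Sylow three-subgroup is one. -/
lemma det_one_of_act (hA : Almost G P) (e : Proj P ≃* alternatingGroup (Fin 6))
    (hz : ∃ z : P, (z : GL (Fin 3) F) ∈ scalars (Fin 3) F ∧ z ≠ 1) (h : G) {i j : Fin 3 × Fin 3}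
    (hu : act hA e h u6 = elt i) (hv : act hA e h v6 = elt j) :
    (1 + (i.2 : ℕ) * j.1) % 3 = ((i.1 : ℕ) * j.2) % 3 := by
  obtain ⟨a, b, z, ha, hb, hzs, hz1, hab⟩ := exists_lifts hA e hz
  have hzc : ∀ w : P, Commute z w := fun w => Subtype.ext (scalar_comm hzs _)
  have hz3 : z ^ 3 = 1 := Subtype.ext (by
    rw [SubmonoidClass.coe_pow]; exact scalar_cube hA.core z.2 hzs)
  have ho : orderOf z = 3 := by
    haveI : Fact (3 : ℕ).Prime := ⟨Nat.prime_three⟩
    exact orderOf_eq_prime hz3 hz1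
  obtain ⟨s, hs, hca⟩ := exists_scalar_of_proj_eq (g := conjP hA h a)
    (h := a ^ (i.1 : ℕ) * b ^ (i.2 : ℕ)) (e.injective (by
      rw [← act_spec, ha, hu, map_mul, map_pow, map_pow, map_mul, map_pow, map_pow, ha, hb]; rfl))
  obtain ⟨t, ht, hcb⟩ := exists_scalar_of_proj_eq (g := conjP hA h b)
    (h := a ^ (j.1 : ℕ) * b ^ (j.2 : ℕ)) (e.injective (by
      rw [← act_spec, hb, hv, map_mul, map_pow, map_pow, map_mul, map_pow, map_pow, ha, hb]; rfl))
  have h1 : conjP hA h a * conjP hA h b = z * (conjP hA h b * conjP hA h a) := by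
    rw [← map_mul, hab, map_mul, map_mul, conjP_scalar hA h z hzs]
  set x := a ^ (i.1 : ℕ) * b ^ (i.2 : ℕ) with hx
  set y := a ^ (j.1 : ℕ) * b ^ (j.2 : ℕ) with hy
  have hsc : ∀ w : P, Commute s w := fun w => Subtype.ext (scalar_comm hs _)
  have htc : ∀ w : P, Commute t w := fun w => Subtype.ext (scalar_comm ht _)
  have hxy : x * y = z * (y * x) := by
    rw [hca, hcb] at h1
    have e1 : s * x * (t * y) = s * t * (x * y) := by
      rw [mul_assoc, ← mul_assoc x, ← (htc x).eq, mul_assoc, ← mul_assoc]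
    have e2 : z * (t * y * (s * x)) = s * t * (z * (y * x)) := by
      rw [mul_assoc t, ← mul_assoc y, ← (hsc y).eq, mul_assoc s, ← mul_assoc t, ← (hsc t).eq,
        ← mul_assoc z, (hzc (s * t)).eq, mul_assoc]
    rw [e1, e2] at h1
    exact mul_left_cancel h1
  have h2 := commutator_words a b z hzc hab i.1 i.2 j.1 j.2
  rw [hxy, mul_assoc, ← ((hzc (y * x)).pow_left _).eq, ← mul_assoc, ← pow_succ'] at h2
  have h3 := pow_eq_pow_iff_modEq.1 (mul_right_cancel h2)
  rw [ho, add_comm] at h3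
  exact h3

/-- In degree six an element preserving the three-cycles is inner. -/
lemma inner_six (hA : Almost G P) (e : Proj P ≃* alternatingGroup (Fin 6))
    (hz : ∃ z : P, (z : GL (Fin 3) F) ∈ scalars (Fin 3) F ∧ z ≠ 1) (h : G)
    (h3 : Equiv.Perm.IsThreeCycle (act hA e h u6 : Perm (Fin 6))) : Inner hA e h := by
  have hall : ∀ x : alternatingGroup (Fin 6), Equiv.Perm.IsThreeCycle (x : Perm (Fin 6)) →
      Equiv.Perm.IsThreeCycle ((act hA e h).toMonoidHom x : Perm (Fin 6)) := by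
    intro x hx
    obtain ⟨c, hc⟩ := isConj_iff.1
      (alternatingGroup.isThreeCycle_isConj (by simp) u6_threeCycle hx)
    show Equiv.Perm.IsThreeCycle (act hA e h x : Perm (Fin 6))
    rw [← hc, map_mul, map_mul, map_inv]
    simp only [Subgroup.coe_mul, Subgroup.coe_inv, Equiv.Perm.IsThreeCycle,
      Equiv.Perm.cycleType_conj]
    exact h3
  obtain ⟨σ, hσ⟩ := CfsgLib.StronglyPEmbedded.exists_perm_of_preserves (α := Fin 6) (by simp)
    (act hA e h).toMonoidHom (act hA e h).injective hall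
  rcases Int.units_eq_one_or (Perm.sign σ) with hs | hs
  · exact ⟨⟨σ, Equiv.Perm.mem_alternatingGroup.2 hs⟩, fun a => Subtype.ext (hσ a)⟩
  exfalso
  obtain ⟨e1, e2, e3⟩ := swap_action
  set τ : Perm (Fin 6) := Equiv.swap 1 2
  have hb : τ * σ⁻¹ ∈ alternatingGroup (Fin 6) := by
    rw [Equiv.Perm.mem_alternatingGroup, map_mul, map_inv, e3, hs]; rfl
  obtain ⟨k, hk⟩ := exists_adjust hA e h ⟨τ * σ⁻¹, hb⟩
  have hgen : ∀ a : alternatingGroup (Fin 6),
      (act hA e (Subgroup.inclusion hA.le k * h) a : Perm (Fin 6)) = τ * a * τ⁻¹ := by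
    intro a
    rw [hk]
    simp only [Subgroup.coe_mul, Subgroup.coe_inv, show (act hA e h a : Perm (Fin 6)) = σ * a * σ⁻¹ from hσ a]
    group
  have h1 : act hA e (Subgroup.inclusion hA.le k * h) u6 = elt (2, 0) := by
    apply Subtype.ext
    rw [hgen, e1]
    decide +kernel
  have h2 : act hA e (Subgroup.inclusion hA.le k * h) v6 = elt (0, 1) := by
    apply Subtype.ext
    rw [hgen, e2]
    decide +kernel
  have := det_one_of_act hA e hz _ h1 h2
  simp at this

/-- The other elements can be moved to the normal form on the Sylow three-subgroup. -/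
lemma exists_normalForm (hA : Almost G P) (e : Proj P ≃* alternatingGroup (Fin 6))
    (hz : ∃ z : P, (z : GL (Fin 3) F) ∈ scalars (Fin 3) F ∧ z ≠ 1) (h : G)
    (hni : ¬ Inner hA e h) :
    ∃ k : P, act hA e (Subgroup.inclusion hA.le k * h) u6 = u6 * v6 ∧
      act hA e (Subgroup.inclusion hA.le k * h) v6 = u6 * v6⁻¹ := by
  haveI : Fact (3 : ℕ).Prime := ⟨Nat.prime_three⟩
  have hnot : ¬ Equiv.Perm.IsThreeCycle (act hA e h u6 : Perm (Fin 6)) := fun h3 =>
    hni (inner_six hA e hz h h3)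
  have hnot' : ¬ Equiv.Perm.IsThreeCycle (act hA e h v6 : Perm (Fin 6)) := by
    intro h3
    apply hnot
    rw [← w6_rel.2.2.2.2.2, map_mul, map_mul, map_inv] at h3
    simpa only [Subgroup.coe_mul, Subgroup.coe_inv, Equiv.Perm.IsThreeCycle,
      Equiv.Perm.cycleType_conj] using h3
  -- move the image of the Sylow subgroup back
  have hcard : ∀ K : Subgroup (alternatingGroup (Fin 6)), Nat.card K = 9 →
      Nat.card K = 3 ^ (Nat.card (alternatingGroup (Fin 6))).factorization 3 := by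
    intro K hK
    have h9 : (9 * 40 : ℕ).factorization 3 = 2 := by
      rw [show (9 : ℕ) = 3 ^ 2 from rfl, Nat.factorization_mul (by norm_num) (by norm_num),
        Nat.Prime.factorization_pow Nat.prime_three]
      simp [Nat.factorization_eq_zero_of_not_dvd (show ¬ 3 ∣ 40 by norm_num)]
    rw [hK, CfsgLib.SLThreeResidual.Alt.card_six, show (360 : ℕ) = 9 * 40 from rfl, h9]
    norm_num
  set E := (sylowHom).range with hE
  have hE' : Nat.card (E.map (act hA e h).toMonoidHom) = 9 := by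
    rw [Subgroup.card_map_of_injective (act hA e h).injective, card_sylowHom_range]
  obtain ⟨g, hg⟩ := MulAction.exists_smul_eq (alternatingGroup (Fin 6))
    (Sylow.ofCard _ (hcard _ hE')) (Sylow.ofCard E (hcard _ card_sylowHom_range))
  have hmove : ∀ x ∈ E, g * act hA e h x * g⁻¹ ∈ E := by
    intro x hx
    have : g * act hA e h x * g⁻¹ ∈
        ((g • Sylow.ofCard _ (hcard _ hE') : Sylow 3 _) : Subgroup (alternatingGroup (Fin 6))) := by
      rw [Sylow.coe_subgroup_smul]
      exact Subgroup.smul_mem_pointwise_smul _ (MulAut.conj g) _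
        (Subgroup.mem_map_of_mem (act hA e h).toMonoidHom hx)
    rwa [hg] at this
  obtain ⟨i, hi⟩ := exists_elt (hmove _ u6_mem)
  obtain ⟨j, hj⟩ := exists_elt (hmove _ v6_mem)
  -- neither image has a fixed point
  have hfix : ∀ (x : alternatingGroup (Fin 6)) (a : Fin 3 × Fin 3),
      g * act hA e h x * g⁻¹ = elt a → x ≠ 1 → ¬ Equiv.Perm.IsThreeCycle (act hA e h x : Perm (Fin 6)) →
      ∀ m, (elt a : Perm (Fin 6)) m ≠ m := by
    intro x a hxa hx1 hx3 m hm
    have key : ¬ Equiv.Perm.IsThreeCycle (elt a : Perm (Fin 6)) := by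
      rw [← hxa]
      simpa only [Subgroup.coe_mul, Subgroup.coe_inv, Equiv.Perm.IsThreeCycle,
        Equiv.Perm.cycleType_conj] using hx3
    rcases elt_fixed a ⟨m, hm⟩ with e' | e' | e' | e' | e' <;> rw [e'] at key hxa
    · exact hx1 ((act hA e h).injective (by rw [map_one]; exact conj_eq_one_iff.1 hxa))
    · exact key u6_threeCycle
    · exact key u6_threeCycle.inv
    · exact key v6_threeCycle
    · exact key v6_threeCycle.inv
  obtain ⟨k₁, hk₁⟩ := exists_adjust hA e h g
  have hdet := det_one_of_act hA e hz (Subgroup.inclusion hA.le k₁ * h) ((hk₁ u6).trans hi)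
    ((hk₁ v6).trans hj)
  obtain ⟨l, hl1, hl2⟩ := normal_form i j (hfix _ _ hi (by decide +kernel) hnot)
    (hfix _ _ hj (by decide +kernel) hnot') hdet
  obtain ⟨k, hk⟩ := exists_adjust hA e h (s6 ^ (l : ℕ) * g)
  refine ⟨k, ?_, ?_⟩
  · rw [hk, ← hl1, ← hi]; group
  · rw [hk, ← hl2, ← hj]; group

/-- Two outer elements differ by an inner one. -/
lemma outer_mul (hA : Almost G P) (e : Proj P ≃* alternatingGroup (Fin 6))
    (hz : ∃ z : P, (z : GL (Fin 3) F) ∈ scalars (Fin 3) F ∧ z ≠ 1) {h₁ h₂ : G}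
    (n₁ : ¬ Inner hA e h₁) (n₂ : ¬ Inner hA e h₂) :
    (QuotientGroup.mk (h₁⁻¹ * h₂) : GBar G) ∈ (socle hA).range := by
  obtain ⟨k₁, a₁, -⟩ := exists_normalForm hA e hz h₁ n₁
  obtain ⟨k₂, a₂, -⟩ := exists_normalForm hA e hz h₂ n₂
  set g₁ := Subgroup.inclusion hA.le k₁ * h₁ with hg₁
  set g₂ := Subgroup.inclusion hA.le k₂ * h₂ with hg₂
  have hfix : act hA e (g₁⁻¹ * g₂) u6 = u6 := by
    apply (act hA e g₁).injective
    rw [← act_mul, mul_inv_cancel_left, a₁, a₂]
  have hmem := mem_socle_of_inner hA e (g₁⁻¹ * g₂)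
    (inner_six hA e hz _ (by rw [hfix]; exact u6_threeCycle))
  haveI := socle_range_normal hA
  have hk : ∀ k : P, (QuotientGroup.mk (Subgroup.inclusion hA.le k) : GBar G) ∈ (socle hA).range :=
    fun k => ⟨proj P k, rfl⟩
  have e1 : (QuotientGroup.mk (h₁⁻¹ * h₂) : GBar G) =
      QuotientGroup.mk (g₁⁻¹ * g₂) *
        ((QuotientGroup.mk g₂ : GBar G)⁻¹ *
          ((QuotientGroup.mk (Subgroup.inclusion hA.le k₁) : GBar G) *
            (QuotientGroup.mk (Subgroup.inclusion hA.le k₂) : GBar G)⁻¹) * QuotientGroup.mk g₂) := by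
    simp only [← QuotientGroup.mk_mul, ← QuotientGroup.mk_inv]
    congr 1
    rw [hg₁, hg₂]
    group
  rw [e1]
  exact mul_mem hmem (Subgroup.Normal.conj_mem' (socle_range_normal hA) _
    (mul_mem (hk k₁) (inv_mem (hk k₂))) _)

/-- The socle has index at most two. -/
theorem six_cases (hA : Almost G P) (e : Proj P ≃* alternatingGroup (Fin 6))
    (hz : ∃ z : P, (z : GL (Fin 3) F) ∈ scalars (Fin 3) F ∧ z ≠ 1) :
    (∀ h : G, Inner hA e h) ∨
      ∃ L : Subgroup (GBar G), L.index = 2 ∧ Nonempty (↥L ≃* ↥(alternatingGroup (Fin 6))) := by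
  by_cases hall : ∀ h : G, Inner hA e h
  · exact Or.inl hall
  push Not at hall
  obtain ⟨h₀, hh₀⟩ := hall
  refine Or.inr ⟨(socle hA).range, ?_, ⟨(MonoidHom.ofInjective (socle_injective hA)).symm.trans e⟩⟩
  haveI := socle_range_normal hA
  have hout : ∀ h : G, ¬ Inner hA e h → (QuotientGroup.mk h : GBar G) ∉ (socle hA).range := by
    rintro h hh ⟨a, ha⟩
    obtain ⟨x, rfl⟩ := QuotientGroup.mk'_surjective _ a
    have hs := QuotientGroup.eq.1 ha
    rw [Subgroup.mem_subgroupOf] at hs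
    refine hh ⟨e (proj P x), fun a => ?_⟩
    obtain ⟨y, rfl⟩ := exists_rep e a
    rw [act_spec, ← act_incl hA e x, act_spec]
    congr 2
    refine Subtype.ext ?_
    have hsc := scalar_comm hs (y : GL (Fin 3) F)
    simp only [Subgroup.coe_mul, Subgroup.coe_inv, Subgroup.coe_inclusion] at hsc
    simp only [conjP_coe, Subgroup.coe_inclusion]
    calc (h : GL (Fin 3) F) * y * (h : GL (Fin 3) F)⁻¹
        = (x : GL (Fin 3) F) * (((x : GL (Fin 3) F)⁻¹ * h) * y) * (h : GL (Fin 3) F)⁻¹ := by group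
      _ = (x : GL (Fin 3) F) * (y * ((x : GL (Fin 3) F)⁻¹ * h)) * (h : GL (Fin 3) F)⁻¹ := by rw [hsc]
      _ = (x : GL (Fin 3) F) * y * (x : GL (Fin 3) F)⁻¹ := by group
  rw [Subgroup.index_eq_two_iff']
  refine ⟨(QuotientGroup.mk h₀ : GBar G)⁻¹, fun b => ?_⟩
  obtain ⟨h, rfl⟩ := QuotientGroup.mk_surjective b
  by_cases hb : Inner hA e h
  · refine Or.inr ⟨mem_socle_of_inner hA e h hb, fun hm => hout h₀ hh₀ ?_⟩
    simpa using inv_mem ((Subgroup.mul_mem_cancel_right _ (mem_socle_of_inner hA e h hb)).1 hm)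
  · refine Or.inl ⟨?_, hout h hb⟩
    rw [← QuotientGroup.mk_inv, ← QuotientGroup.mk_mul]
    exact outer_mul hA e hz hh₀ hb

/-- Outside characteristic five there are no outer elements. -/
theorem inner_of_ne_five (hA : Almost G P) (e : Proj P ≃* alternatingGroup (Fin 6))
    (hz : ∃ z : P, (z : GL (Fin 3) F) ∈ scalars (Fin 3) F ∧ z ≠ 1) (h5 : (5 : F) ≠ 0) (h : G) :
    Inner hA e h := by
  by_contra hni
  obtain ⟨k, hu, hv⟩ := exists_normalForm hA e hz h hni
  set g₁ := Subgroup.inclusion hA.le k * h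
  obtain ⟨r2, r4, r3, r5, r1, -⟩ := w6_rel
  set φ := act hA e g₁ with hφ
  obtain ⟨g, hg⟩ := fused (φ w6) (by rw [← map_mul, r2, map_one])
    (by rw [← hu, ← map_mul, ← map_pow, r4, map_one])
    (by rw [← hv, ← map_mul, ← map_pow, r3, map_one])
  set y := w6 * (u6 * v6) with hy
  have hφy : φ y = g * y ^ 2 * g⁻¹ := by rw [hg, map_mul, map_mul, hu, hv]
  obtain ⟨k₂, hk₂⟩ := exists_adjust hA e g₁ g⁻¹
  have hpow : act hA e (Subgroup.inclusion hA.le k₂ * g₁) y = y ^ 2 := by
    rw [hk₂, ← hφ, hφy]; group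
  obtain ⟨x₀, hx₀⟩ := exists_rep e y
  obtain ⟨z, x, -, -, hx5, hpx⟩ := lift_coprime hA.core x₀ (n := 5)
    (e.injective (by rw [map_pow, hx₀, r5, map_one])) (by norm_num)
  have hx : e (proj P x) = y := by rw [hpx, hx₀]
  have hx5' : (x : GL (Fin 3) F) ^ 5 = 1 := by rw [← SubmonoidClass.coe_pow, hx5, Subgroup.coe_one]
  have hx1 : (x : GL (Fin 3) F) ≠ 1 := by
    intro h1
    rw [show x = 1 from Subtype.ext h1, map_one, map_one] at hx
    exact r1 hx.symm
  have hr : tr3 (x : GL (Fin 3) F)⁻¹ = tr3 (x : GL (Fin 3) F) :=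
    real_of_conj hA.core x (n := 4) hx5 (by norm_num)
      (conj_transport e (by rw [hx]; exact CfsgLib.SLThreeResidual.Alt.five_six r5))
  have h2 := trace_pow_of_act hA e _ x (n := 5) (m := 2) (by norm_num) hx5 (by rw [hx]; exact hpow)
  exact false_of_five (det_eq_one hA.core x.2) hx5' hx1 hr h2 h5

end CfsgLib.SLThreeSubgroups.AltCase
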