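import Cfsg.Agent.Lib.SLThreeSubgroups.Defs
import Cfsg.Agent.Lib.SLThreeResidual.RootPair
import Cfsg.Agent.Lib.SLThreeResidual.Dihedral
import Cfsg.Agent.Lib.SLThreeResidual.Traces
import Cfsg.Agent.Lib.SLThreeResidual.FrameSD
import Cfsg.Agent.Lib.SLThreeResidual.FrameWreath

/-!
# Subgroups of the three-dimensional special linear group: the case division

A perfect absolutely irreducible group over its smallest field is linear, unitary, orthogonal, or one of the
exceptional groups; the corresponding types are invariant under isomorphism.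
-/

set_option autoImplicit false

namespace CfsgLib.SLThreeSubgroups

open Cfsg.Geo CfsgLib.SLThreeResidual
open scoped MatrixGroups

section Transport

variable {p α : ℕ} {X Y : Type*} [Group X] [Group Y]

lemma exists_index_of_equiv {M : Type*} [Group M] {n : ℕ} (e : Y ≃* X)
    (h : ∃ L : Subgroup X, L.index = n ∧ Nonempty (↥L ≃* M)) :
    ∃ L : Subgroup Y, L.index = n ∧ Nonempty (↥L ≃* M) := by
  obtain ⟨L, hL, ⟨f⟩⟩ := h
  exact ⟨L.map e.symm.toMonoidHom, (Subgroup.index_map_equiv L e.symm).trans hL,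
    ⟨(L.equivMapOfInjective e.symm.toMonoidHom e.symm.injective).symm.trans f⟩⟩

lemma nonempty_of_equiv {M : Type*} [Group M] (e : Y ≃* X) (h : Nonempty (X ≃* M)) : Nonempty (Y ≃* M) :=
  h.map e.trans

theorem IsLinearType.of_equiv (e : Y ≃* X) (h : IsLinearType p α X) : IsLinearType p α Y := by
  rcases h with ⟨K, i1, i2, β, h1, h2, h3⟩ | ⟨K, i1, i2, β, h1, h2, h3, h4⟩
  · exact Or.inl ⟨K, i1, i2, β, h1, h2, nonempty_of_equiv e h3⟩
  · exact Or.inr ⟨K, i1, i2, β, h1, h2, h3, exists_index_of_equiv e h4⟩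

theorem IsUnitaryType.of_equiv (e : Y ≃* X) (h : IsUnitaryType p α X) : IsUnitaryType p α Y := by
  rcases h with ⟨K, i1, i2, β, h1, h2, h3⟩ | ⟨K, i1, i2, β, h1, h2, h3, h4⟩
  · exact Or.inl ⟨K, i1, i2, β, h1, h2, nonempty_of_equiv e h3⟩
  · exact Or.inr ⟨K, i1, i2, β, h1, h2, h3, exists_index_of_equiv e h4⟩

theorem IsOrthType.of_equiv (e : Y ≃* X) (h : IsOrthType p α X) : IsOrthType p α Y := by
  rcases h with ⟨K, i1, i2, β, h1, h2, h3, h4⟩ | ⟨h0, K, i1, i2, h1, h2⟩
  · exact Or.inl ⟨K, i1, i2, β, h1, h2, h3, h4.imp (nonempty_of_equiv e) (nonempty_of_equiv e)⟩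
  · exact Or.inr ⟨h0, K, i1, i2, h1, nonempty_of_equiv e h2⟩

theorem IsSevenType.of_equiv (e : Y ≃* X) (h : IsSevenType p α X) : IsSevenType p α Y := by
  obtain ⟨h0, K, i1, i2, h1, h2⟩ := h
  exact ⟨h0, K, i1, i2, h1, nonempty_of_equiv e h2⟩

theorem IsAltType.of_equiv (e : Y ≃* X) (h : IsAltType p α X) : IsAltType p α Y := by
  rcases h with ⟨h1, h2, h3⟩ | ⟨h1, h2⟩
  · exact Or.inl ⟨h1, h2, h3.imp (nonempty_of_equiv e)
      (Or.imp (nonempty_of_equiv e) (exists_index_of_equiv e))⟩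
  · exact Or.inr ⟨h1, nonempty_of_equiv e h2⟩

end Transport

variable {F : Type*} [Field F] [Fintype F] {P : Subgroup (GL (Fin 3) F)}

/-- The five possibilities for a perfect absolutely irreducible group over its smallest field. -/
theorem core_cases (h2 : (2 : F) ≠ 0) (hC : Core P) (hK : NoSub P)
    (hred : TvFree P → (∃ (S : Sylow 2 (Proj P)) (n : ℕ), 2 ≤ n ∧
      Nonempty ((S : Subgroup (Proj P)) ≃* DihedralGroup n)) ∨ SDFrame P ∨ WrFrame P) :
    specialLinear (Fin 3) F ≤ P ∨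
    (∃ (σ : F ≃+* F) (f : (Fin 3 → F) → (Fin 3 → F) → F),
      IsUnitaryForm σ f ∧ FixesForm (matrixSet P) f ∧ AllFormTv P f) ∨
    QuadFix P ∨
    (¬ QuadFix P ∧ Nonempty (Proj P ≃* Matrix.ProjectiveSpecialLinearGroup (Fin 3) (ZMod 2))) ∨
    (¬ QuadFix P ∧ (Nonempty (Proj P ≃* alternatingGroup (Fin 6)) ∨
      Nonempty (Proj P ≃* alternatingGroup (Fin 7)))) := by
  rcases tvFree_or_hasRootPair h2 P with hT | hR
  · rcases hred hT with ⟨S, n, hn, hS⟩ | h | h
    · by_cases hQ : QuadFix P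
      · exact Or.inr (Or.inr (Or.inl hQ))
      rcases proj_of_dihedral hC S n hn hS with h | h | h | h
      · exact Or.inr (Or.inr (Or.inr (Or.inl ⟨hQ, h⟩)))
      · exact Or.inr (Or.inr (Or.inr (Or.inr ⟨hQ, Or.inl h⟩)))
      · exact Or.inr (Or.inr (Or.inr (Or.inr ⟨hQ, Or.inr h⟩)))
      · exact absurd (quadFix_of_realTraces h2 hC h) hQ
    · exact (sdFrame_false h2 hC hT h).elim
    · exact (wrFrame_false h2 hC hT h).elim
  · exact (rootPair_big hC hK hR).imp_right Or.inl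

end CfsgLib.SLThreeSubgroups
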